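import Cfsg.Agent.H997.OutHN
import Cfsg.Agent.H845.HNSeven
import Cfsg.Agent.H845.HNNineteen
import Cfsg.Agent.H904.TwoHS
import Cfsg.Agent.H173.RS.HNFacts
import Cfsg.Agent.KFacts.HN.Sheet

/-!
# The Harada–Norton group: facts for the Sidki row (helper748, S3010)

* `exists_twist`: the outer automorphism `α`: trivial on `2.HS`, `α t = t²`, `α² = conj (ψ τ)`;
* `exists_mul`: every outer automorphism is `conj c * α`.
-/

set_option autoImplicit false

namespace Cfsg.Agent.H748.SK.HNRow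

open Subgroup
open Cfsg.Agent.HN Cfsg.Agent.HN.Pres Cfsg.Agent.HN.P1408 Cfsg.Agent.HN.H0Basic
open Cfsg.Agent.HN.HS100 (K)
open Cfsg.Agent.KFacts.HN (emb finite_HN)
open Cfsg.Agent.H997.OutHN

/-- the involution of the class 2A -/
noncomputable def z : Cfsg.Spor.HN := NormalH.ψ τ

theorem z_eq : z = Pres.hx ^ 2 := ψ_τ

theorem zz : z * z = 1 := by rw [z, ← map_mul, τ_mul_τ, map_one]

theorem z_ne : z ≠ 1 := emb.t_ne

theorem z_inv : z⁻¹ = z := inv_eq_of_mul_eq_one_left zz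

theorem z_comm (h : H0) : NormalH.ψ h * z = z * NormalH.ψ h := by
  rw [z, ← map_mul, ← map_mul, τ_comm]

/-- `z` inverts `t` -/
theorem z_ht : z * Pres.ht * z⁻¹ = Pres.ht⁻¹ := by
  have hx1 : Pres.hx⁻¹ * Pres.ht * Pres.hx = (Pres.ht ^ 2)⁻¹ := mul_eq_one_iff_eq_inv.1 rel_tx
  have hx2 : (Pres.hx ^ 2)⁻¹ * Pres.ht * Pres.hx ^ 2 = Pres.ht ^ 4 := by
    calc (Pres.hx ^ 2)⁻¹ * Pres.ht * Pres.hx ^ 2 = Pres.hx⁻¹ * (Pres.hx⁻¹ * Pres.ht * Pres.hx) * Pres.hx := by
          rw [pow_two]; group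
      _ = Pres.hx⁻¹ * (Pres.ht ^ 2)⁻¹ * Pres.hx := by rw [hx1]
      _ = ((Pres.hx⁻¹ * Pres.ht * Pres.hx) ^ 2)⁻¹ := by rw [pow_two, pow_two]; group
      _ = (((Pres.ht ^ 2)⁻¹) ^ 2)⁻¹ := by rw [hx1]
      _ = Pres.ht ^ 4 := by group
  have h4 : Pres.ht ^ 4 = Pres.ht⁻¹ := by
    rw [eq_inv_iff_mul_eq_one, ← pow_succ]; exact rel_t5
  rw [← h4, ← hx2, ← z_eq, z_inv]

theorem ht_ne : Pres.ht ≠ 1 := by
  intro h
  have h1 := rel_zt
  -- `(z x² t²)³ = 1` with `t = 1` gives `(hz hx²)³ = 1`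
  rw [h, one_pow, mul_one, ← ψ_τ, ← NormalH.ψ_gz, ← map_mul, ← map_pow] at h1
  have h2 : (gz * τ) ^ 3 = 1 := emb.inj (h1.trans (map_one _).symm)
  have h3 : gz * gz = 1 := by rw [← pow_two]; exact rels_H0.r7
  have h4 : (gz * τ) ^ 2 = 1 := by
    rw [pow_two]
    calc gz * τ * (gz * τ) = gz * (τ * gz) * τ := by group
      _ = gz * (gz * τ) * τ := by rw [τ_comm gz]
      _ = gz * gz * (τ * τ) := by group
      _ = 1 := by rw [h3, τ_mul_τ, mul_one]
  have h5 : gz * τ = 1 := by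
    rw [pow_succ, h4, one_mul] at h2
    exact h2
  have h6 : gz ∈ K := by
    rw [mul_eq_one_iff_eq_inv.1 h5]
    exact inv_mem τ_mem_K
  exact HS100.gz_not_mem h6

theorem orderOf_ht : orderOf Pres.ht = 5 := by
  have : Fact (Nat.Prime 5) := ⟨Nat.prime_five⟩
  exact orderOf_eq_prime rel_t5 ht_ne

/-- **The outer automorphism.** -/
theorem exists_twist : ∃ α : MulAut Cfsg.Spor.HN, (∀ g : Cfsg.Spor.HN, α ≠ MulAut.conj g) ∧
    (∀ k ∈ K, α (NormalH.ψ k) = NormalH.ψ k) ∧ α Pres.ht = Pres.ht ^ 2 ∧ α * α = MulAut.conj z := by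
  have hs := simple'
  have hfin := KFacts.HN.finite_HN
  obtain ⟨θ, hx, hy, hz, ht⟩ := exists_end
  have hx2 : Pres.hx ^ 2 ≠ 1 := by
    rw [← ψ_τ]
    intro h
    exact KFacts.HN.emb.ne (KFacts.HN.emb.inj (h.trans (map_one _).symm))
  have hinj : Function.Injective θ := by
    rw [← MonoidHom.ker_eq_bot_iff]
    rcases IsSimpleGroup.eq_bot_or_eq_top_of_normal θ.ker inferInstance with h | h
    · exact h
    · exfalso
      have h1 : Pres.hx ∈ θ.ker := by rw [h]; exact Subgroup.mem_top _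
      rw [MonoidHom.mem_ker, hx] at h1
      exact hx2 (by rw [h1, one_pow])
  have hcomp : θ.comp NormalH.ψ = NormalH.ψ.comp twist := by
    refine MonoidHom.eq_of_eqOn_dense closure_gens ?_
    rintro h (rfl | rfl | rfl)
    · rw [MonoidHom.comp_apply, MonoidHom.comp_apply, twist_gx, NormalH.ψ_gx, hx]
    · rw [MonoidHom.comp_apply, MonoidHom.comp_apply, twist_gy, NormalH.ψ_gy, hy]
    · rw [MonoidHom.comp_apply, MonoidHom.comp_apply, twist_gz, map_mul, NormalH.ψ_gz, ψ_τ, hz]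
  have hK' : ∀ k ∈ K, θ (NormalH.ψ k) = NormalH.ψ k := by
    intro k hk
    have h1 := congrArg (fun f : H0 →* Cfsg.Spor.HN => f k) hcomp
    simp only [MonoidHom.comp_apply] at h1
    rw [h1, twist_of_mem hk]
  refine ⟨MulEquiv.ofBijective θ (Finite.injective_iff_bijective.1 hinj), ?_, hK', ht, ?_⟩
  · intro g hg
    have happ : ∀ u : Cfsg.Spor.HN, θ u = g * u * g⁻¹ := fun u =>
      congrArg (fun β : MulAut Cfsg.Spor.HN => β u) hg
    have hc : ∀ u : Cfsg.Spor.HN, θ u = u → g * u = u * g := by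
      intro u hu
      rw [happ] at hu
      exact mul_inv_eq_iff_eq_mul.1 hu
    have hgτ : g * NormalH.ψ τ = NormalH.ψ τ * g := by
      apply hc
      rw [ψ_τ, map_pow, hx]
    obtain ⟨h, rfl⟩ := KFacts.HN.emb.cent g hgτ
    have hK : ∀ k ∈ K, h * k = k * h := by
      intro k hk
      apply KFacts.HN.emb.inj
      rw [map_mul, map_mul]
      apply hc
      exact hK' k hk
    have hz' : θ Pres.hz = Pres.hz := by
      rw [happ, mul_inv_eq_iff_eq_mul, ← NormalH.ψ_gz, ← map_mul, ← map_mul]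
      rcases StepFive.eq_of_comm_K hK with rfl | rfl
      · rw [one_mul, mul_one]
      · rw [τ_comm]
    rw [hz] at hz'
    exact hx2 (mul_eq_left.1 hz')
  · have h1 : θ.comp θ = (MulAut.conj z).toMonoidHom := by
      apply PresentedGroup.ext
      intro g
      have hxx : ∀ u : H0, θ (θ (NormalH.ψ u)) = z * NormalH.ψ u * z⁻¹ := by
        intro u
        rw [mul_inv_eq_iff_eq_mul.2 (z_comm u).symm]
        have h2 := congrArg (fun f : H0 →* Cfsg.Spor.HN => f u) hcomp
        have h3 := congrArg (fun f : H0 →* Cfsg.Spor.HN => f (twist u)) hcomp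
        simp only [MonoidHom.comp_apply] at h2 h3
        rw [h2, h3]
        congr 1
        by_cases hu : u ∈ K
        · rw [twist_of_mem hu, twist_of_mem hu]
        · have hu' : u * τ ∉ K := fun h => hu ((Subgroup.mul_mem_cancel_right K τ_mem_K).1 h)
          rw [twist_of_not hu, twist_of_not hu', mul_assoc, τ_mul_τ, mul_one]
      cases g with
      | x => 
        have := hxx gx
        rw [NormalH.ψ_gx] at this
        exact this
      | y =>
        have := hxx gy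
        rw [NormalH.ψ_gy] at this
        exact this
      | z =>
        have := hxx gz
        rw [NormalH.ψ_gz] at this
        exact this
      | t =>
        show θ (θ Pres.ht) = z * Pres.ht * z⁻¹
        rw [z_ht, ht, map_pow, ht, ← pow_mul, eq_inv_iff_mul_eq_one, ← pow_succ]
        exact rel_t5
    apply MulEquiv.ext
    intro u
    exact congrArg (fun f : Cfsg.Spor.HN →* Cfsg.Spor.HN => f u) h1

/-- **Every outer automorphism is `conj c * α`.** -/
theorem exists_mul {α β : MulAut Cfsg.Spor.HN} (hα : ∀ g : Cfsg.Spor.HN, α ≠ MulAut.conj g)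
    (hβ : ∀ g : Cfsg.Spor.HN, β ≠ MulAut.conj g) : ∃ c : Cfsg.Spor.HN, β = MulAut.conj c * α := by
  set I := (MulAut.conj : Cfsg.Spor.HN →* MulAut Cfsg.Spor.HN).range with hI
  have h1 : α ∉ I := by
    rintro ⟨g, hg⟩
    exact hα g hg.symm
  have h2 : β ∉ I := by
    rintro ⟨g, hg⟩
    exact hβ g hg.symm
  have h3 : I.index = 2 := by
    rcases KFacts.HN.out_index with h | h
    · exfalso
      rw [Subgroup.index_eq_one] at h
      exact h1 (by rw [hI, h]; exact Subgroup.mem_top _)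
    · exact h
  have h4 : β * α⁻¹ ∈ I := by
    rw [Subgroup.mul_mem_iff_of_index_two h3]
    exact iff_of_false h2 (fun h => h1 (by simpa using inv_mem h))
  obtain ⟨c, hc⟩ := h4
  exact ⟨c, by rw [hc]; group⟩

end Cfsg.Agent.H748.SK.HNRow
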