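import Cfsg.Agent.HN.CoverUnique
import Cfsg.Agent.HN.CentCards
import Cfsg.Agent.HN.DoubleCover
import Cfsg.Agent.H904.TwoHS
import Cfsg.Agent.SigZeroHN.Main
import Cfsg.Agent.KFacts.HN.Sheet

/-!
# `HN`: the centralizer of an element of order 11 is not divisible by 4 (helper748, S3010)

After `H149/Sp/HNEleven.lean` (helper149), with light imports.
-/

set_option autoImplicit false
set_option maxRecDepth 100000

open Subgroup

namespace Cfsg.Agent.H748.SK.HNRow

open Cfsg Cfsg.Agent.HN.Pres Cfsg.Agent.HN.H0Basic Cfsg.Agent.HN.Syl Cfsg.Agent.HN.Iota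
open Cfsg.Agent.HN.XWords Cfsg.Agent.KFacts.HN Cfsg.Agent.HN.Classes Cfsg.Agent.SigZeroHN
open Cfsg.Agent.HN.HS100 (K gx_mem)
open Cfsg.Agent.HN.Twist (a_mem_K)

/-! ### general -/

/-- an involution `τ` such that `⟨τ⟩` contains the 2-elements commuting with `τ` (helper149) -/
theorem not_four_dvd {G : Type*} [Group G] [Finite G] {τ : G} (hτ : orderOf τ = 2)
    (h : ∀ z : G, z * τ = τ * z → (∃ n, z ^ 2 ^ n = 1) → z = 1 ∨ z = τ) : ¬ 4 ∣ Nat.card G := by
  intro hd
  have hf : Fact (Nat.Prime 2) := ⟨Nat.prime_two⟩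
  have hZ : IsPGroup 2 (zpowers τ) := by
    rw [IsPGroup.iff_card]
    exact ⟨1, by rw [Nat.card_zpowers, hτ, pow_one]⟩
  obtain ⟨P, hP⟩ := hZ.exists_le_sylow
  have h1 : 2 ^ 2 ∣ Nat.card (P : Subgroup G) := P.pow_dvd_card_of_pow_dvd_card (by norm_num; exact hd)
  have hτP : τ ∈ (P : Subgroup G) := hP (mem_zpowers τ)
  have hnt : Nontrivial (P : Subgroup G) := by
    refine ⟨⟨⟨τ, hτP⟩, 1, fun e => ?_⟩⟩
    have e1 : τ = 1 := congrArg Subtype.val e
    rw [e1, orderOf_one] at hτ
    norm_num at hτ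
  have hpow : ∀ z : (P : Subgroup G), ∃ n, (z : G) ^ 2 ^ n = 1 := by
    intro z
    obtain ⟨n, hn⟩ := P.2 z
    exact ⟨n, congrArg Subtype.val hn⟩
  have hcen := P.2.center_nontrivial
  obtain ⟨z, hz⟩ := exists_ne (1 : center (P : Subgroup G))
  have hzc := mem_center_iff.1 z.2
  have hz1 : (z : (P : Subgroup G)) = ⟨τ, hτP⟩ := by
    have h2 : ((z : (P : Subgroup G)) : G) * τ = τ * (z : (P : Subgroup G)) :=
      (congrArg Subtype.val (hzc ⟨τ, hτP⟩)).symm
    rcases h _ h2 (hpow _) with h3 | h3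
    · exact absurd (Subtype.ext (Subtype.ext h3)) hz
    · exact Subtype.ext h3
  have hall : ∀ x : (P : Subgroup G), x = 1 ∨ x = ⟨τ, hτP⟩ := by
    intro x
    have h2 : (x : G) * τ = τ * x := by
      have := hzc x
      rw [hz1] at this
      exact congrArg Subtype.val this
    rcases h _ h2 (hpow _) with h3 | h3
    · exact Or.inl (Subtype.ext h3)
    · exact Or.inr (Subtype.ext h3)
  have hle : Nat.card (P : Subgroup G) ≤ 2 := by
    have h2 : Nat.card (P : Subgroup G) ≤ Nat.card (Fin 2) := by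
      refine Nat.card_le_card_of_surjective (fun i : Fin 2 => if i = 0 then (1 : (P : Subgroup G)) else ⟨τ, hτP⟩) ?_
      intro x
      rcases hall x with h3 | h3
      · exact ⟨0, by simp [h3]⟩
      · exact ⟨1, by simp [h3]⟩
    have h3 : Nat.card (Fin 2) = 2 := by rw [Nat.card_eq_fintype_card, Fintype.card_fin]
    rwa [h3] at h2
  have := Nat.le_of_dvd Nat.card_pos h1
  omega

/-- In a group of order `2 · odd`, a product of two elements of the same order and an involution
is not trivial. -/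
theorem parity {C : Type*} [Group C] [Finite C] (h4 : ¬ 4 ∣ Nat.card C) {z c c' : C} (hz : orderOf z = 2)
    (hcc : orderOf c = orderOf c') (h : c * c' * z = 1) : False := by
  have h2 : 2 ∣ Nat.card C := hz ▸ orderOf_dvd_natCard z
  have hf : Fact (Nat.Prime 2) := ⟨Nat.prime_two⟩
  let P : Sylow 2 C := default
  have hcard : Nat.card P ∣ 2 := by
    obtain ⟨n, hn⟩ := IsPGroup.iff_card.mp P.isPGroup'
    have h1 : Nat.card P ∣ Nat.card C := Subgroup.card_subgroup_dvd_card _
    rw [hn] at h1 ⊢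
    have hn1 : n ≤ 1 := by
      by_contra hcon
      push Not at hcon
      exact h4 ((pow_dvd_pow 2 hcon).trans h1)
    exact (pow_dvd_pow 2 hn1).trans (by norm_num)
  have hcyc : IsCyclic P := isCyclic_of_card_dvd_prime (p := 2) hcard
  have hmin : (Nat.card C).minFac = 2 := (Nat.minFac_eq_two_iff _).mpr h2
  let f := MonoidHom.transferSylow P (hcyc.normalizer_le_centralizer hmin)
  have hodd : ¬ 2 ∣ Nat.card f.ker := MonoidHom.not_dvd_card_ker_transferSylow P _
  have key : ∀ g : C, f g = 1 ↔ ¬ 2 ∣ orderOf g := by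
    intro g
    constructor
    · intro hg hd
      apply hodd
      have hg' : g ∈ f.ker := hg
      exact hd.trans (Subgroup.orderOf_dvd_natCard _ hg')
    · intro hg
      have h1 : orderOf (f g) ∣ orderOf g := orderOf_map_dvd f g
      have h3 : orderOf (f g) ∣ 2 := (orderOf_dvd_natCard (f g)).trans hcard
      rcases (Nat.dvd_prime Nat.prime_two).1 h3 with h5 | h5
      · exact orderOf_eq_one_iff.1 h5
      · rw [h5] at h1
        exact absurd h1 hg
  have hsq : ∀ x : P, x * x = 1 := by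
    intro x
    rw [← pow_two]
    exact orderOf_dvd_iff_pow_eq_one.1 ((orderOf_dvd_natCard x).trans hcard)
  have heq : f c = f c' := by
    have h5 : f c = 1 ↔ f c' = 1 := by rw [key, key, hcc]
    by_cases h6 : f c = 1
    · rw [h6, h5.1 h6]
    · have h7 : f c' ≠ 1 := fun h7 => h6 (h5.2 h7)
      by_contra h8
      classical
      have hfin : Fintype P := Fintype.ofFinite _
      have h9 : ({1, f c, f c'} : Finset P).card ≤ Nat.card P := by
        rw [Nat.card_eq_fintype_card]
        exact Finset.card_le_univ _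
      have h10 : ({1, f c, f c'} : Finset P).card = 3 :=
        Finset.card_eq_three.2 ⟨_, _, _, fun h => h6 h.symm, fun h => h7 h.symm, h8, rfl⟩
      have h11 := Nat.le_of_dvd (by norm_num) hcard
      omega
  have hfz : f z = 1 := by
    have h5 : f (c * c' * z) = 1 := by rw [h, map_one]
    rw [map_mul, map_mul, ← heq, hsq, one_mul] at h5
    exact h5
  rw [key, hz] at hfz
  exact hfz (dvd_refl 2)

/-! ### `H0` -/

/-- an element of `H0` commuting with `x` gives a divisor of the order of the centralizer of a conjugate -/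
theorem dvd_card_of_conj {X : Type*} [Group X] {s x v : X} (h : IsConj s x) (hvx : v * x = x * v) :
    orderOf v ∣ Nat.card (centralizer ({s} : Set X)) := by
  obtain ⟨c, hc⟩ := isConj_iff.1 h.symm
  have h1 : c * v * c⁻¹ ∈ centralizer ({s} : Set X) := by
    rw [mem_centralizer_singleton_iff, ← hc]
    calc c * v * c⁻¹ * (c * x * c⁻¹) = c * (v * x) * c⁻¹ := by group
      _ = c * (x * v) * c⁻¹ := by rw [hvx]
      _ = c * x * c⁻¹ * (c * v * c⁻¹) := by group
  have h2 := Subgroup.orderOf_dvd_natCard _ h1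
  rwa [show orderOf (c * v * c⁻¹) = orderOf v from orderOf_injective (MulAut.conj c).toMonoidHom (MulAut.conj c).injective v] at h2

theorem not_eleven_z : ¬ 11 ∣ Nat.card (centralizer ({gz} : Set H0)) := by
  intro h
  have h1 := Cfsg.Agent.HN.CentCards.card_centralizer_z
  have h2 : iota.range ≤ centralizer ({gz} : Set H0) := by
    rintro _ ⟨s, rfl⟩
    rw [mem_centralizer_singleton_iff]
    exact (z_iota s).symm
  have h3 : Nat.card iota.range = 20160 := by
    rw [← Nat.card_congr (MonoidHom.ofInjective iota_inj).toEquiv, nat_card_alternatingGroup, Nat.card_eq_fintype_card,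
      Fintype.card_fin]
    rfl
  have h4 := card_dvd_of_le h2
  rw [h3] at h4
  obtain ⟨k, hk⟩ := h4
  rw [hk] at h h1
  have h5 : k ≤ 4 := by omega
  have h6 : 0 < k := by
    rcases Nat.eq_zero_or_pos k with rfl | h7
    · have : Finite H0 := Cfsg.Agent.HN.H0Basic.finite_H0
      have h8 : 0 < Nat.card (centralizer ({gz} : Set H0)) := Nat.card_pos
      omega
    · exact h7
  interval_cases k <;> omega

/-- in `2.HS` -/
theorem k_eleven {v x : H0} (hv : orderOf v = 11) (hvx : v * x = x * v) (hx : x ^ 2 = 1 ∨ x ^ 2 = τ) (hxK : x ∈ K) :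
    x = 1 ∨ x = τ := by
  have hvK : v ∈ K := by
    have h1 : v = (v ^ 2) ^ 6 := by
      rw [← pow_mul, show 2 * 6 = 11 + 1 by norm_num, pow_succ, ← hv, pow_orderOf_eq_one, one_mul]
    rw [h1]
    exact K.pow_mem (sq_mem_K v) 6
  obtain ⟨hcen, ⟨e⟩, -⟩ := Cfsg.Agent.HN.CoverUnique.isCover_K
  have hτc : (⟨τ, τ_mem_K⟩ : K) ∈ center K := by
    rw [mem_center_iff]
    intro g
    exact Subtype.ext (emb.comm g)
  have hmem : ∀ g : K, g ∈ center K → (g : H0) = 1 ∨ (g : H0) = τ := by
    intro g hg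
    rw [Cfsg.Agent.HN.DoubleCover.center_K Cfsg.Agent.HN.H0Basic.card_H0 Cfsg.Agent.HN.CoverUnique.gxne,
      MonoidHom.mem_ker] at hg
    exact φ_eq_one_iff.1 (congrArg Subtype.val hg)
  let f : K →* Spor.HS := e.toMonoidHom.comp (QuotientGroup.mk' (center K))
  have hf1 : ∀ g : K, f g = 1 ↔ g ∈ center K := by
    intro g
    show e (QuotientGroup.mk' (center K) g) = 1 ↔ _
    rw [map_eq_one_iff e e.injective]
    exact QuotientGroup.eq_one_iff g
  have hfin : Finite H0 := Cfsg.Agent.HN.H0Basic.finite_H0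
  have hfHS : Finite Spor.HS := Finite.of_surjective f (e.surjective.comp (QuotientGroup.mk'_surjective _))
  by_contra hcon
  obtain ⟨-, -, n11⟩ := H904.TwoHS.eleven (L := Spor.HS) ⟨MulEquiv.refl _⟩
  have hf11 : Fact (Nat.Prime 11) := ⟨by norm_num⟩
  have o11 : orderOf (f ⟨v, hvK⟩) = 11 := by
    refine orderOf_eq_prime ?_ ?_
    · rw [← map_pow]
      have h1 : (⟨v, hvK⟩ : K) ^ 11 = 1 := Subtype.ext (by rw [← hv]; exact pow_orderOf_eq_one v)
      rw [h1, map_one]
    · intro h
      have h2 : v ^ 2 = 1 := by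
        rcases hmem _ ((hf1 _).1 h) with h3 | h3
        · have h4 : v = 1 := h3
          rw [h4, one_pow]
        · have h4 : v = τ := h3
          rw [h4, pow_two]
          exact emb.sq
      have h5 := orderOf_dvd_of_pow_eq_one h2
      rw [hv] at h5
      norm_num at h5
  have o2 : orderOf (f ⟨x, hxK⟩) = 2 := by
    refine orderOf_eq_prime ?_ ?_
    · rw [pow_two, ← map_mul, hf1]
      rcases hx with h | h
      · have h1 : (⟨x, hxK⟩ : K) * ⟨x, hxK⟩ = 1 := Subtype.ext (by
          show x * x = 1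
          rw [← pow_two, h])
        rw [h1]
        exact (center K).one_mem
      · have h1 : (⟨x, hxK⟩ : K) * ⟨x, hxK⟩ = ⟨τ, τ_mem_K⟩ := Subtype.ext (by
          show x * x = τ
          rw [← h, pow_two])
        rw [h1]
        exact hτc
    · intro h
      exact hcon (hmem _ ((hf1 _).1 h))
  have hcm : f ⟨x, hxK⟩ * f ⟨v, hvK⟩ = f ⟨v, hvK⟩ * f ⟨x, hxK⟩ := by
    rw [← map_mul, ← map_mul]
    congr 1
    exact Subtype.ext hvx.symm
  have h1 := (n11 (zpowers (f ⟨v, hvK⟩)) (by rw [Nat.card_zpowers, o11])).1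
  rw [zpowers_eq_closure, centralizer_closure] at h1
  have h2 := Subgroup.orderOf_dvd_natCard _ (mem_centralizer_singleton_iff.2 hcm)
  rw [h1, o2] at h2
  norm_num at h2

/-- in `H0 = 2.HS.2` -/
theorem h0_eleven {v x : H0} (hv : orderOf v = 11) (hvx : v * x = x * v) (hx : x ^ 2 = 1 ∨ x ^ 2 = τ) : x = 1 ∨ x = τ := by
  rcases sq_cases hx with h | h | h | h | h | h | h
  · exact Or.inl h
  · exact Or.inr h
  · exact k_eleven hv hvx hx ((mem_K_of_isConj h).1 a_mem_K)
  · exact k_eleven hv hvx hx ((mem_K_of_isConj h).1 (K.mul_mem a_mem_K τ_mem_K))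
  · exact k_eleven hv hvx hx ((mem_K_of_isConj h).1 gx_mem)
  · exfalso
    have h1 := dvd_card_of_conj h hvx
    rw [hv] at h1
    exact not_eleven_z h1
  · exfalso
    have : IsSimpleGroup Cfsg.Spor.HN := Cfsg.Agent.HN.XWords.simple_HN
    have h1 : IsConj (Cfsg.Agent.HN.NormalH.ψ x) W0 := by
      refine (Cfsg.Agent.HN.NormalH.ψ.map_isConj h.symm).trans ?_
      rw [W0_eq]
      exact Cfsg.Agent.HN.InvHN.isConj_d
    have h2 := dvd_card_of_conj h1.symm (v := Cfsg.Agent.HN.NormalH.ψ v) (by rw [← map_mul, hvx, map_mul])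
    rw [orderOf_injective _ emb.inj, hv, PCard.card_centralizer] at h2
    norm_num at h2

/-- **The centralizer of an element of order 11 of `2.HS.2`** -/
theorem cent_eleven {v : H0} (hv : orderOf v = 11) :
    ¬ 4 ∣ Nat.card (centralizer ({Cfsg.Agent.HN.NormalH.ψ v} : Set Spor.HN)) := by
  have hfin : Finite Spor.HN := finite_HN
  set C := centralizer ({Cfsg.Agent.HN.NormalH.ψ v} : Set Spor.HN) with hC
  have hτ2 : orderOf τ = 2 := orderOf_eq_prime (by rw [pow_two]; exact emb.sq) emb.ne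
  have hzC : Cfsg.Agent.HN.NormalH.ψ τ ∈ C := by
    rw [hC, mem_centralizer_singleton_iff, ← map_mul, ← map_mul, emb.comm]
  refine not_four_dvd (τ := (⟨_, hzC⟩ : C)) (by rw [orderOf_mk, orderOf_injective _ emb.inj, hτ2]) ?_
  rintro w hw ⟨n, hn⟩
  have hw1 : (w : Spor.HN) * Cfsg.Agent.HN.NormalH.ψ τ = Cfsg.Agent.HN.NormalH.ψ τ * w := congrArg Subtype.val hw
  have hw2 : (w : Spor.HN) * Cfsg.Agent.HN.NormalH.ψ v = Cfsg.Agent.HN.NormalH.ψ v * w :=
    mem_centralizer_singleton_iff.1 w.2
  obtain ⟨k, hk⟩ := emb.cent (w : Spor.HN) hw1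
  have hkv : v * k = k * v := by
    apply emb.inj
    rw [map_mul, map_mul, hk]
    exact hw2.symm
  have hkn : k ^ 2 ^ n = 1 := by
    apply emb.inj
    rw [map_pow, hk, map_one]
    exact congrArg Subtype.val hn
  have hz : ∀ n : ℕ, ∀ k : H0, v * k = k * v → k ^ 2 ^ n = 1 → k = 1 ∨ k = τ := by
    intro n
    induction n with
    | zero =>
      intro k _ h
      left
      simpa using h
    | succ n ih =>
      intro k hkv h
      refine h0_eleven hv hkv ?_
      refine ih (k ^ 2) ?_ ?_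
      · exact (Commute.pow_right (show Commute v k from hkv) 2)
      · rw [← pow_mul, ← pow_succ']
        exact h
  rcases hz n k hkv hkn with h | h
  · left
    apply Subtype.ext
    rw [← hk, h, map_one]
    rfl
  · right
    apply Subtype.ext
    rw [← hk, h]

end Cfsg.Agent.H748.SK.HNRow
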