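import Cfsg.Agent.H465.SK.OddCore
import Cfsg.Agent.H282.SK.Def

/-!
# S3010: the argument of `H465.SK.OddCore` for a group `X` without outer automorphisms (helper748)

* `Good p w` : the condition of `HasQ` on one element, invariant under conjugation;
* `good_of_index_two` : `|C(x)| = 2 p ^ m` and no involution centralises a group of order `p ^ m`;
* `false_of` : `Cx V K`, `K = ⊤`, `G ≃* X`, `NoCent p X`, `HasQ p X`, `p` divides the orders of the centralisers of the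
  involutions of `X`: `False`;
* `eq_top_of_inner` : `Cx V K`, all automorphisms of `K` inner: `K = ⊤`.
-/

set_option autoImplicit false
set_option linter.unusedSectionVars false
set_option linter.style.haveILetI false

universe u

namespace Cfsg.Agent.H748.SK

open Cfsg Subgroup Cfsg.Agent.H465.SK Cfsg.Agent.H282.SK

section Gen

variable {G X : Type*} [Group G] [Group X] [Finite G] [Finite X]

/-- `(T1)` under an isomorphism -/
theorem t1_map (e : G ≃* X) {V : Subgroup G} (h : T1 V) : T1 (V.map e.toMonoidHom) := by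
  rintro _ ⟨v, hv, rfl⟩ x hx1 hxo hvx
  obtain ⟨y, rfl⟩ := e.surjective x
  have hy1 : y ≠ 1 := fun h => hx1 (by rw [h, map_one])
  have hyo : Odd (orderOf y) := by rwa [e.orderOf_eq] at hxo
  have hvx' : e v * e y * (e v)⁻¹ = (e y)⁻¹ := hvx
  have hvy : v * y * v⁻¹ = y⁻¹ := e.injective (by rw [map_mul, map_mul, map_inv, map_inv]; exact hvx')
  obtain ⟨r, hr, hr1, hrv, hry, R, hrR, hR, hRn⟩ := h v hv y hy1 hyo hvy
  refine ⟨e r, ⟨r, hr, rfl⟩, fun h => hr1 (e.injective (by rw [h, map_one])), ?_, ?_, R.map e.toMonoidHom,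
    ⟨r, hrR, rfl⟩, hR.map _, ?_⟩
  · show e r * e v = e v * e r
    rw [← map_mul, ← map_mul, hrv]
  · show e r * e y = e y * e r
    rw [← map_mul, ← map_mul, hry]
  · rintro c hcv hcy _ ⟨z, hz, rfl⟩
    obtain ⟨c, rfl⟩ := e.surjective c
    refine ⟨c * z * c⁻¹, hRn c ?_ ?_ z hz, ?_⟩
    · have hcv' : e c * e v = e v * e c := hcv
      exact e.injective (by rw [map_mul, map_mul]; exact hcv')
    · exact e.injective (by rw [map_mul, map_mul]; exact hcy)
    · show e (c * z * c⁻¹) = e c * e z * (e c)⁻¹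
      rw [map_mul, map_mul, map_inv]

/-- the condition of `HasQ` on one element of the whole group -/
def Good (p : ℕ) (w : G) : Prop := ∃ Q : Subgroup G, IsPGroup p Q ∧ w ∈ Q ∧
  (∀ g : G, (∀ q ∈ Q, g * q = q * g) → g ∈ Q) ∧
  ∀ g : G, g * w * g⁻¹ = w ∨ g * w * g⁻¹ = w⁻¹ → ∀ q ∈ Q, g * q * g⁻¹ ∈ Q

theorem Good.conj {p : ℕ} {w : G} (h : Good p w) (a : G) : Good p (a * w * a⁻¹) := by
  obtain ⟨Q, hQ, hw, hc, hn⟩ := h
  refine ⟨Q.map (MulAut.conj a).toMonoidHom, hQ.map _, ⟨w, hw, rfl⟩, ?_, ?_⟩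
  · intro g hg
    refine ⟨a⁻¹ * g * a, hc _ ?_, ?_⟩
    · intro q hq
      have h1 : g * (a * q * a⁻¹) = (a * q * a⁻¹) * g := hg (a * q * a⁻¹) ⟨q, hq, rfl⟩
      calc a⁻¹ * g * a * q = a⁻¹ * (g * (a * q * a⁻¹)) * a := by group
        _ = a⁻¹ * ((a * q * a⁻¹) * g) * a := by rw [h1]
        _ = q * (a⁻¹ * g * a) := by group
    · show a * (a⁻¹ * g * a) * a⁻¹ = g
      group
  · rintro g hg _ ⟨q, hq, rfl⟩
    refine ⟨(a⁻¹ * g * a) * q * (a⁻¹ * g * a)⁻¹, hn _ ?_ q hq, ?_⟩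
    · rcases hg with hg | hg
      · left
        calc (a⁻¹ * g * a) * w * (a⁻¹ * g * a)⁻¹ = a⁻¹ * (g * (a * w * a⁻¹) * g⁻¹) * a := by group
          _ = w := by rw [hg]; group
      · right
        calc (a⁻¹ * g * a) * w * (a⁻¹ * g * a)⁻¹ = a⁻¹ * (g * (a * w * a⁻¹) * g⁻¹) * a := by group
          _ = w⁻¹ := by rw [hg]; group
    · show a * ((a⁻¹ * g * a) * q * (a⁻¹ * g * a)⁻¹) * a⁻¹ = g * (a * q * a⁻¹) * g⁻¹
      group

theorem Good.of_isConj {p : ℕ} {w x : G} (h : Good p x) (hc : IsConj w x) : Good p w := by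
  obtain ⟨g, hg⟩ := isConj_iff.1 (isConj_comm.1 hc)
  rw [← hg]
  exact h.conj g

theorem hasQ_of_good {p : ℕ} (h : ∀ x : G, x ≠ 1 → (∃ k : ℕ, x ^ p ^ k = 1) → Good p x) : HasQ p (⊤ : Subgroup G) := by
  intro x _ hx1 hx
  obtain ⟨Q, hQ, hxQ, hc, hn⟩ := h x hx1 hx
  exact ⟨Q, le_top, hQ, hxQ, fun g _ hg => hc g hg, hn⟩

/-- `|C(x)| = 2 p ^ m` and no involution centralises a group of order `p ^ m` -/
theorem good_of_index_two {p m : ℕ} [hp : Fact p.Prime] (hp2 : p ≠ 2) {x : G} (hx : orderOf x = p)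
    (hc : Nat.card (centralizer ({x} : Set G)) = 2 * p ^ m)
    (h2 : ∀ t : G, orderOf t = 2 → ¬ p ^ m ∣ Nat.card (centralizer ({t} : Set G))) : Good p x := by
  classical
  obtain ⟨C, hC⟩ : ∃ C : Subgroup G, C = centralizer ({x} : Set G) := ⟨_, rfl⟩
  rw [← hC] at hc
  have hmem : ∀ g : G, g ∈ C ↔ g * x = x * g := fun g => by rw [hC, mem_centralizer_singleton_iff]
  obtain ⟨P⟩ : Nonempty (Sylow p C) := inferInstance
  have hfac : (Nat.card C).factorization p = m := by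
    rw [hc, Nat.factorization_mul two_ne_zero (pow_ne_zero _ hp.out.ne_zero), Finsupp.add_apply,
      hp.out.factorization_pow, Finsupp.single_eq_same, Nat.factorization_eq_zero_of_not_dvd
      (fun h => hp2 ((Nat.prime_dvd_prime_iff_eq hp.out Nat.prime_two).1 h)), zero_add]
  have hP : Nat.card P = p ^ m := by rw [P.card_eq_multiplicity, hfac]
  have hi : (P : Subgroup C).index = 2 := by
    have h1 := (P : Subgroup C).card_mul_index
    have h3 : Nat.card (P : Subgroup C) = p ^ m := hP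
    rw [h3, hc, mul_comm] at h1
    exact Nat.eq_of_mul_eq_mul_right (pow_pos hp.out.pos m) h1
  -- the `p`-elements of `C` are in `P`
  have key : ∀ y : C, (∃ k, y ^ p ^ k = 1) → y ∈ (P : Subgroup C) := by
    rintro y ⟨k, hk⟩
    have h1 : y ^ 2 ∈ (P : Subgroup C) := Subgroup.sq_mem_of_index_two hi y
    obtain ⟨j, hj⟩ : Odd (p ^ k) := (hp.out.odd_of_ne_two hp2).pow
    have h3 : y = (y ^ 2) ^ (j + 1) := by
      rw [← pow_mul, show 2 * (j + 1) = p ^ k + 1 by omega, pow_succ, hk, one_mul]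
    rw [h3]
    exact pow_mem h1 _
  have hPe : ∀ q : C, q ∈ (P : Subgroup C) → ∃ k, (q : G) ^ p ^ k = 1 := by
    intro q hq
    obtain ⟨k, hk⟩ := P.isPGroup' ⟨q, hq⟩
    refine ⟨k, ?_⟩
    have := congrArg (fun t : P => ((t : C) : G)) hk
    simpa using this
  have hxC : x ∈ C := (hmem x).2 rfl
  refine ⟨(P : Subgroup C).map C.subtype, P.isPGroup'.map _, ?_, ?_, ?_⟩
  · refine ⟨⟨x, hxC⟩, key _ ⟨1, Subtype.ext ?_⟩, rfl⟩
    show x ^ p ^ 1 = 1
    rw [pow_one, ← hx, pow_orderOf_eq_one]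
  · intro g hg
    have hxP : x ∈ (P : Subgroup C).map C.subtype := by
      refine ⟨⟨x, hxC⟩, key _ ⟨1, Subtype.ext ?_⟩, rfl⟩
      show x ^ p ^ 1 = 1
      rw [pow_one, ← hx, pow_orderOf_eq_one]
    have hgC : g ∈ C := (hmem g).2 (hg x hxP)
    have h3 : (g ^ p ^ m) ^ 2 = 1 := by
      rw [← pow_mul, mul_comm, ← hc]
      have h4 : (⟨g, hgC⟩ : C) ^ Nat.card C = 1 := pow_card_eq_one'
      exact congrArg Subtype.val h4
    have h4 : g ^ p ^ m = 1 := by
      by_contra hne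
      have h5 : orderOf (g ^ p ^ m) = 2 := orderOf_eq_prime h3 hne
      apply h2 _ h5
      have h6 : (P : Subgroup C).map C.subtype ≤ centralizer ({g ^ p ^ m} : Set G) := by
        intro q hq
        rw [mem_centralizer_singleton_iff]
        exact ((show Commute g q from hg q hq).pow_left _).eq.symm
      have h7 := card_dvd_of_le h6
      rwa [card_map_of_injective C.subtype_injective, show Nat.card (P : Subgroup C) = p ^ m from hP] at h7
    exact ⟨⟨g, hgC⟩, key _ ⟨m, Subtype.ext h4⟩, rfl⟩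
  · rintro g hg _ ⟨q, hq, rfl⟩
    obtain ⟨k, hk⟩ := hPe q hq
    have hqx : Commute (q : G) x := (hmem q).1 q.2
    have h3 : Commute (g * q * g⁻¹) (g * x * g⁻¹) := by
      show g * q * g⁻¹ * (g * x * g⁻¹) = g * x * g⁻¹ * (g * q * g⁻¹)
      calc g * q * g⁻¹ * (g * x * g⁻¹) = g * (q * x) * g⁻¹ := by group
        _ = g * (x * q) * g⁻¹ := by rw [hqx.eq]
        _ = _ := by group
    have h4 : g * q * g⁻¹ ∈ C := by
      rw [hmem]
      rcases hg with hg | hg
      · rw [hg] at h3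
        exact h3
      · rw [hg] at h3
        exact (Commute.inv_right_iff.1 h3).eq
    refine ⟨⟨g * q * g⁻¹, h4⟩, key _ ⟨k, Subtype.ext ?_⟩, rfl⟩
    show (g * q * g⁻¹) ^ p ^ k = 1
    rw [conj_pow, hk]
    group

/-- no involution centralises a Sylow `p`-subgroup -/
theorem noCent_of {p m : ℕ} [hp : Fact p.Prime] (hd : p ^ m ∣ Nat.card G)
    (h2 : ∀ t : G, orderOf t = 2 → ¬ p ^ m ∣ Nat.card (centralizer ({t} : Set G))) : NoCent p (⊤ : Subgroup G) := by
  intro r hr hr1 P _ hP hmax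
  by_contra hcon
  push Not at hcon
  obtain ⟨Q, hQ⟩ := hP.exists_le_sylow
  have h3 : (Q : Subgroup G) = P := hmax Q hQ le_top Q.isPGroup'
  have h4 : p ^ m ∣ Nat.card P := by
    rw [← h3]
    exact Q.pow_dvd_card_of_pow_dvd_card hd
  have h5 : P ≤ centralizer ({r} : Set G) := fun u hu => mem_centralizer_singleton_iff.2 (hcon u hu).symm
  exact h2 r (orderOf_eq_prime (by rw [pow_two, hr]) hr1) (h4.trans (card_dvd_of_le h5))

end Gen

section

variable {G : Type u} [Group G] [Finite G] {V K : Subgroup G}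

/-- the tool `(T1)` (as `H465.SK.Cx.toT1`) -/
theorem toT1 (h : Cx V K) : T1 V := by
  intro v hv x hx1 hxo hvx
  have hv1 : v ≠ 1 := by
    rintro rfl
    apply hx1
    have h1 : x * x = 1 := by
      have h2 : x = x⁻¹ := by simpa using hvx
      nth_rewrite 2 [h2]
      exact mul_inv_cancel x
    have h4 : orderOf x ∣ 2 := orderOf_dvd_of_pow_eq_one (by rw [pow_two, h1])
    rcases (Nat.dvd_prime Nat.prime_two).1 h4 with h5 | h5
    · exact orderOf_eq_one_iff.1 h5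
    · rw [h5] at hxo
      exact absurd hxo (by decide)
  obtain ⟨w, hw, hw1, hwx, hwO⟩ := h.t1 hv hv1 hxo hvx
  exact ⟨w, hw, hw1, (h.comm hw hv).eq, hwx.eq, _, hwO, isPGroup_O2 _, fun c hcv hcx y hy =>
    conj_mem_O2 (mem_inf.2 ⟨mem_centralizer_singleton_iff.2 hcv, mem_centralizer_singleton_iff.2 hcx⟩) hy⟩

/-- all automorphisms of `K` are inner: `G = K` -/
theorem eq_top_of_inner (h : Cx V K) (hin : ∀ α : MulAut K, ∃ p : K, α = MulAut.conj p) : K = ⊤ := by
  haveI := h.norm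
  rw [eq_top_iff]
  intro g _
  obtain ⟨p, hp⟩ := hin (MulAut.conjNormal g)
  have hk : ∀ k ∈ K, g * k * g⁻¹ = (p : G) * k * (p : G)⁻¹ := by
    intro k hk
    have h1 := MulAut.conjNormal_apply (H := K) g ⟨k, hk⟩
    rw [hp] at h1
    exact h1.symm
  have h1 : (p : G)⁻¹ * g = 1 := by
    apply h.eq_one_of_comm
    intro k hk'
    calc (p : G)⁻¹ * g * k = (p : G)⁻¹ * (g * k * g⁻¹) * g := by group
      _ = (p : G)⁻¹ * ((p : G) * k * (p : G)⁻¹) * g := by rw [hk k hk']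
      _ = k * ((p : G)⁻¹ * g) := by group
  rw [← inv_mul_eq_one.1 h1]
  exact p.2

/-- **The argument of `H465.SK.OddCore` for `G ≃* X`.** -/
theorem false_of {X : Type*} [Group X] [Finite X] (h : Cx V K) (e : G ≃* X) {p : ℕ} [hp : Fact p.Prime] (hp2 : p ≠ 2)
    (hN : NoCent p (⊤ : Subgroup X)) (hQ : HasQ p (⊤ : Subgroup X))
    (hd : ∀ t : X, orderOf t = 2 → p ∣ Nat.card (centralizer ({t} : Set X))) : False := by
  obtain ⟨v, hv, hv1⟩ : ∃ v ∈ V, v ≠ 1 := by
    by_contra hcon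
    push Not at hcon
    exact h.V_ne_bot (eq_bot_iff.2 fun v hv => mem_bot.2 (hcon v hv))
  have hv1' : e v ≠ 1 := fun h => hv1 (e.injective (by rw [h, map_one]))
  have hvo : orderOf (e v) = 2 := orderOf_eq_prime (by rw [pow_two, ← map_mul, h.sq hv, map_one]) hv1'
  obtain ⟨x, hx⟩ := exists_prime_orderOf_dvd_card' p (hd _ hvo)
  refine no_centralized (K := (⊤ : Subgroup X)) (V := V.map e.toMonoidHom) (p := p) inferInstance hp2 hN hQ ?_ ?_
    (t1_map e (toT1 h)) (v := e v) (x := (x : X)) ⟨v, hv, rfl⟩ hv1' (mem_top _) ?_ ⟨1, ?_⟩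
    (mem_centralizer_singleton_iff.1 x.2).symm
  · rintro _ ⟨a, ha, rfl⟩
    show e a * e a = 1
    rw [← map_mul, h.sq ha, map_one]
  · rintro _ ⟨a, ha, rfl⟩ _ ⟨b, hb, rfl⟩
    show e a * e b = e b * e a
    rw [← map_mul, ← map_mul, (h.comm ha hb).eq]
  · intro h1
    rw [← Subgroup.orderOf_coe, h1, orderOf_one] at hx
    exact hp.out.one_lt.ne hx
  · rw [pow_one, ← hx, ← Subgroup.orderOf_coe, pow_orderOf_eq_one]

end

end Cfsg.Agent.H748.SK
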